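import Groth.Agent.Lib.Poincare.Products
import Groth.Agent.Lib.Poincare.Frob
import Groth.Agent.Lib.Poincare.RHyp
import Groth.Agent.Lib.TateThm.QuotFin
import Groth.Agent.Lib.HomFG.Finite
import Groth.Agent.Lib.AbTors.FiniteKer
import Mathlib.AlgebraicGeometry.ZariskisMainTheorem

/-!
# Homomorphisms of abelian varieties over a field as an additive category up to isogeny
-/

set_option autoImplicit false
set_option linter.all false
set_option backward.isDefEq.respectTransparency false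
set_option maxHeartbeats 1000000

universe u

open CategoryTheory CategoryTheory.Limits MonoidalCategory CartesianMonoidalCategory MonObj AlgebraicGeometry

noncomputable section

namespace GrothLib.AVCat

variable {k : Type u} [Field k]
variable {X Y Z : Over (Spec (CommRingCat.of k))} [GrpObj X] [IsCommMonObj X] [GrpObj Y] [IsCommMonObj Y]
  [GrpObj Z] [IsCommMonObj Z]

theorem toHom_sum {κ : Type*} (s : Finset κ) (f : κ → EndAV.Hom X Y) :
    (∑ t ∈ s, f t).toHom = ∏ t ∈ s, (f t).toHom := by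
  classical
  induction s using Finset.induction_on with
  | empty => rw [Finset.sum_empty, Finset.prod_empty]; rfl
  | insert a s ha ih => rw [Finset.sum_insert ha, Finset.prod_insert ha, EndAV.Hom.toHom_add, ih]

theorem natCast_comp (n : ℕ) (φ : EndAV.Hom X Y) : ((n : EndAV.End X) : EndAV.Hom X X) ≫ φ = n • φ := by
  rw [show ((n : EndAV.End X) : EndAV.Hom X X) = n • (1 : EndAV.End X) from (nsmul_one n).symm]
  exact (Preadditive.nsmul_comp _ _ n).trans (congrArg (n • ·) (Category.id_comp φ))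

theorem comp_natCast (φ : EndAV.Hom X Y) (n : ℕ) : φ ≫ ((n : EndAV.End Y) : EndAV.Hom Y Y) = n • φ := by
  rw [show ((n : EndAV.End Y) : EndAV.Hom Y Y) = n • (1 : EndAV.End Y) from (nsmul_one n).symm]
  exact (Preadditive.comp_nsmul _ _ n).trans (congrArg (n • ·) (Category.comp_id φ))

theorem intCast_comp (n : ℤ) (φ : EndAV.Hom X Y) : ((n : EndAV.End X) : EndAV.Hom X X) ≫ φ = n • φ := by
  rw [show ((n : EndAV.End X) : EndAV.Hom X X) = n • (1 : EndAV.End X) from (zsmul_one n).symm]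
  exact (Preadditive.zsmul_comp _ _ n).trans (congrArg (n • ·) (Category.id_comp φ))

theorem comp_intCast (φ : EndAV.Hom X Y) (n : ℤ) : φ ≫ ((n : EndAV.End Y) : EndAV.Hom Y Y) = n • φ := by
  rw [show ((n : EndAV.End Y) : EndAV.Hom Y Y) = n • (1 : EndAV.End Y) from (zsmul_one n).symm]
  exact (Preadditive.comp_zsmul _ _ n).trans (congrArg (n • ·) (Category.comp_id φ))

/-- Points killed by generators are killed by their combinations. -/
theorem comp_eq_one_of_span {n : ℕ} (e : Fin n → EndAV.Hom X Y) {φ : EndAV.Hom X Y} (a : Fin n → ℤ)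
    (ha : φ = ∑ t, a t • e t) {T : Over (Spec (CommRingCat.of k))} (x : T ⟶ X) (h : ∀ t, x ≫ (e t).toHom = 1) :
    x ≫ φ.toHom = 1 := by
  have h1 : EndAV.Hom.ptsMap T φ (Additive.ofMul x) = 0 := by
    rw [ha, map_sum, AddMonoidHom.finsetSum_apply]
    refine Finset.sum_eq_zero fun t _ => ?_
    rw [map_zsmul, AddMonoidHom.smul_apply, EndAV.Hom.ptsMap_apply, toMul_ofMul, h t]
    exact zsmul_zero _
  exact Additive.ofMul.injective h1

/-! ### Frobenius -/

/-- The Frobenius of `X` is killed by `P`. -/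
def HasP [Finite k] (P : Polynomial ℤ) (X : Over (Spec (CommRingCat.of k))) [GrpObj X] [IsCommMonObj X] : Prop :=
  ∃ (π : X ⟶ X) (_ : IsMonHom π) (_ : π.left.base = 𝟙 _) (hle : ∀ U : X.left.Opens, U ≤ π.left ⁻¹ᵁ U)
    (_ : ∀ (U : X.left.Opens) (s : Γ(X.left, U)), (π.left.appLE U U (hle U)).hom s = s ^ Nat.card k),
      Polynomial.eval₂ (Int.castRingHom (EndAV.End X)) (EndAV.End.of π) P = 0

theorem comp_eval₂ (f : EndAV.Hom X Y) (a : EndAV.End X) (b : EndAV.End Y)
    (h : f ≫ (b : EndAV.Hom Y Y) = (a : EndAV.Hom X X) ≫ f) (P : Polynomial ℤ) :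
    f ≫ ((Polynomial.eval₂ (Int.castRingHom (EndAV.End Y)) b P : EndAV.End Y) : EndAV.Hom Y Y) =
      ((Polynomial.eval₂ (Int.castRingHom (EndAV.End X)) a P : EndAV.End X) : EndAV.Hom X X) ≫ f := by
  have hpow : ∀ n : ℕ, f ≫ ((b ^ n : EndAV.End Y) : EndAV.Hom Y Y) = ((a ^ n : EndAV.End X) : EndAV.Hom X X) ≫ f := by
    intro n
    induction n with
    | zero => rw [pow_zero, pow_zero]; exact (Category.comp_id f).trans (Category.id_comp f).symm
    | succ n ih =>
      rw [pow_succ', pow_succ']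
      show f ≫ (b ^ n : EndAV.End Y) ≫ b = ((a ^ n : EndAV.End X) ≫ a) ≫ f
      rw [← Category.assoc, ih, Category.assoc, h, Category.assoc]
  induction P using Polynomial.induction_on' with
  | add p q hp hq =>
    rw [Polynomial.eval₂_add, Polynomial.eval₂_add]
    exact (Preadditive.comp_add _ _ _ f _ _).trans
      ((congrArg₂ (· + ·) hp hq).trans (Preadditive.add_comp _ _ _ _ _ f).symm)
  | monomial n c =>
    rw [Polynomial.eval₂_monomial, Polynomial.eval₂_monomial]
    show f ≫ (b ^ n : EndAV.End Y) ≫ ((c : EndAV.End Y) : EndAV.Hom Y Y) =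
      ((a ^ n : EndAV.End X) ≫ ((c : EndAV.End X) : EndAV.Hom X X)) ≫ f
    rw [comp_intCast, Category.assoc, intCast_comp, Preadditive.comp_zsmul, Preadditive.comp_zsmul, hpow]

variable [IsProper X.hom] [GeometricallyIntegral X.hom] [IsProper Y.hom] [GeometricallyIntegral Y.hom]
  [IsProper Z.hom] [GeometricallyIntegral Z.hom]

theorem frob_comm [Finite k] (f : EndAV.Hom X Y) (πX : X ⟶ X) [IsMonHom πX]
    (hXle : ∀ U : X.left.Opens, U ≤ πX.left ⁻¹ᵁ U)
    (hXapp : ∀ (U : X.left.Opens) (s : Γ(X.left, U)), (πX.left.appLE U U (hXle U)).hom s = s ^ Nat.card k)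
    (πY : Y ⟶ Y) [IsMonHom πY] (hYle : ∀ U : Y.left.Opens, U ≤ πY.left ⁻¹ᵁ U)
    (hYapp : ∀ (U : Y.left.Opens) (s : Γ(Y.left, U)), (πY.left.appLE U U (hYle U)).hom s = s ^ Nat.card k) :
    f ≫ (EndAV.End.of πY : EndAV.Hom Y Y) = (EndAV.End.of πX : EndAV.Hom X X) ≫ f := by
  haveI : IsIntegral X.left := GeometricallyIntegral.isIntegral_of_subsingleton X.hom
  exact EndAV.Hom.ext (Poincare.comm_frob πX πY hXle hXapp hYle hYapp f.toHom)

/-- An abelian variety embedded in objects killed by `P` is killed by `P`. -/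
theorem HasP.of_jointly [Finite k] {P : Polynomial ℤ} {m : ℕ} (f : Fin m → EndAV.Hom X Y) (hY : HasP P Y)
    (hf : ∀ u : EndAV.Hom X X, (∀ t, u ≫ f t = 0) → u = 0) : HasP P X := by
  obtain ⟨πX, hπ, hb, hle, happ⟩ := RHyp.exists_frob X
  obtain ⟨πY, _, -, hle', happ', hP⟩ := hY
  refine ⟨πX, hπ, hb, hle, happ, hf _ fun t => ?_⟩
  haveI := hπ
  rw [← comp_eval₂ (f t) _ _ (frob_comm (f t) πX hle happ πY hle' happ'), hP]
  exact Limits.comp_zero

/-- An image of an object killed by `P` is killed by `P`. -/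
theorem HasP.of_epi [Finite k] {P : Polynomial ℤ} (f : EndAV.Hom Y X) (hY : HasP P Y)
    (hf : ∀ u : EndAV.Hom X X, f ≫ u = 0 → u = 0) : HasP P X := by
  obtain ⟨πX, hπ, hb, hle, happ⟩ := RHyp.exists_frob X
  obtain ⟨πY, _, -, hle', happ', hP⟩ := hY
  refine ⟨πX, hπ, hb, hle, happ, hf _ ?_⟩
  haveI := hπ
  rw [comp_eval₂ f _ _ (frob_comm f πY hle' happ' πX hle happ), hP]
  exact Limits.zero_comp

/-! ### Up to isogeny -/

/-- Homomorphisms have no torsion. -/
theorem eq_zero_of_nsmul {n : ℕ} (hn : n ≠ 0) {φ : EndAV.Hom X Y} (h : n • φ = 0) : φ = 0 := by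
  haveI := HomFG.free_hom (A := X) (B := Y)
  rw [← natCast_zsmul] at h
  exact (smul_eq_zero.1 h).resolve_left (Int.natCast_ne_zero.2 hn)

omit [IsCommMonObj X] [IsCommMonObj Y] in
theorem mono_of_closedImmersion (f : X ⟶ Y) [IsClosedImmersion f.left] : Mono f := by
  haveI : Mono ((Over.forget _).map f) := inferInstanceAs (Mono f.left)
  exact (Over.forget _).mono_of_mono_map inferInstance

omit [IsCommMonObj X] [IsCommMonObj Y] in
theorem closedImmersion_of_points (f : X ⟶ Y)
    (h : ∀ (T : Over (Spec (CommRingCat.of k))) (x y : T ⟶ X), x ≫ f = y ≫ f → x = y) : IsClosedImmersion f.left := by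
  haveI : IsProper f.left := by
    haveI : IsProper (f.left ≫ Y.hom) := by rw [Over.w]; infer_instance
    exact IsProper.of_comp f.left Y.hom
  haveI : Mono f.left := ⟨fun {T} a b hab => by
    have hb : b ≫ X.hom = a ≫ X.hom := by rw [← Over.w f, ← Category.assoc, ← hab, Category.assoc]
    exact congrArg CommaMorphism.left (h (Over.mk (a ≫ X.hom)) (Over.homMk a rfl) (Over.homMk b hb)
      (Over.OverMorphism.ext hab))⟩
  exact (IsClosedImmersion.iff_isProper_and_mono (f := f.left)).2 ⟨inferInstance, inferInstance⟩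

/-- Poincaré: an abelian subvariety is a direct summand up to an integer. -/
theorem exists_retraction (i : EndAV.Hom X Y) [IsClosedImmersion i.toHom.left] :
    ∃ (N : ℕ) (r : EndAV.Hom Y X), 0 < N ∧ i ≫ r = N • 𝟙 _ := by
  obtain ⟨C, _, j, _, _, _, _, hsurj, hfin⟩ := Poincare.exists_complement Y X i.toHom
  haveI : IsCommMonObj C := Cube.isCommMonObj_abVar
  haveI : IsProper (X ⊗ C).hom := inferInstanceAs (IsProper (pullback.fst X.hom C.hom ≫ X.hom))
  haveI : GeometricallyIntegral (X ⊗ C).hom := Poincare.geometricallyIntegral_tensor X C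
  haveI : IsMonHom ((fst X C ≫ i.toHom) * (snd X C ≫ j)) :=
    DiagGrp.isMonHom_mul_central i.toHom j fun _ _ _ => _root_.mul_comm _ _
  haveI : IsCommMonObj (X ⊗ C) := Cube.isCommMonObj_abVar
  haveI := hsurj
  haveI := hfin
  obtain ⟨n, d, hn, _, hd, -⟩ := GrpDeligne.exists_dual_hom_of_surjective (X ⊗ C) Y
    ((fst X C ≫ i.toHom) * (snd X C ≫ j))
  refine ⟨n, EndAV.Hom.of (d ≫ fst X C), hn, EndAV.Hom.ext ?_⟩
  rw [EndAV.Hom.toHom_nsmul]
  show i.toHom ≫ d ≫ fst X C = 𝟙 X ^ n
  have e : i.toHom = lift (𝟙 X) 1 ≫ ((fst X C ≫ i.toHom) * (snd X C ≫ j)) := by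
    rw [MonObj.comp_mul, lift_fst_assoc, lift_snd_assoc, MonObj.one_comp, _root_.mul_one, Category.id_comp]
  conv_lhs => rw [e]
  rw [Category.assoc, ← Category.assoc _ d, hd, MonObj.pow_comp, Category.id_comp, MonObj.comp_pow, lift_fst]

/-- A surjection has a section up to an integer. -/
theorem exists_section (q : EndAV.Hom X Y) [Surjective q.toHom.left] :
    ∃ (N : ℕ) (s : EndAV.Hom Y X), 0 < N ∧ s ≫ q = N • 𝟙 _ := by
  obtain ⟨n, s, hn, hs, e⟩ := Poincare.exists_section_of_surjective q.toHom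
  haveI := hs
  refine ⟨n, EndAV.Hom.of s, hn, EndAV.Hom.ext ?_⟩
  rw [EndAV.Hom.toHom_nsmul]
  exact e

theorem eq_zero_of_surjective_comp (q : EndAV.Hom X Y) [Surjective q.toHom.left] (a : EndAV.Hom Y Z)
    (h : q ≫ a = 0) : a = 0 := by
  obtain ⟨n, s, hn, hs⟩ := exists_section q
  refine eq_zero_of_nsmul hn.ne' ?_
  have h1 := congrArg (s ≫ ·) h
  rw [← Category.assoc, hs, Preadditive.nsmul_comp, Category.id_comp, Limits.comp_zero] at h1
  exact h1

/-- Every homomorphism is a surjection followed by a closed immersion. -/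
theorem exists_fac (F : EndAV.Hom X Y) :
    ∃ (M : Over (Spec (CommRingCat.of k))) (_ : GrpObj M) (_ : IsCommMonObj M) (_ : IsProper M.hom)
      (_ : GeometricallyIntegral M.hom) (q : EndAV.Hom X M) (i : EndAV.Hom M Y),
      Surjective q.toHom.left ∧ IsClosedImmersion i.toHom.left ∧ q ≫ i = F := by
  obtain ⟨M, _, i, _, _, _, _, hr, q, hq⟩ := Rigidity.exists_image F.toHom
  haveI : IsCommMonObj M := Cube.isCommMonObj_abVar
  haveI : Mono i := mono_of_closedImmersion i
  haveI : IsMonHom (q ≫ i) := by rw [hq]; infer_instance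
  haveI : IsMonHom q := DiagGrp.isMonHom_of_comp_mono q i
  refine ⟨M, inferInstance, inferInstance, inferInstance, inferInstance, EndAV.Hom.of q, EndAV.Hom.of i,
    ⟨fun x => ?_⟩, ‹IsClosedImmersion i.left›, EndAV.Hom.ext hq⟩
  obtain ⟨a, ha⟩ : i.left x ∈ Set.range F.toHom.left := hr ▸ ⟨x, rfl⟩
  refine ⟨a, i.left.isClosedEmbedding.injective ?_⟩
  rw [← ha, ← Scheme.Hom.comp_apply, EndAV.Hom.toHom_of, ← Over.comp_left, hq]

/-- Homomorphisms are regular up to an integer. -/
theorem exists_regular (F : EndAV.Hom X Y) :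
    ∃ (N : ℕ) (G : EndAV.Hom Y X), 0 < N ∧ F ≫ G ≫ F = N • F := by
  obtain ⟨M, _, _, _, _, q, i, hq, hi, hqi⟩ := exists_fac F
  obtain ⟨a, s, ha, hs⟩ := exists_section q
  obtain ⟨b, r, hb, hr⟩ := exists_retraction i
  refine ⟨b * a, r ≫ s, Nat.mul_pos hb ha, ?_⟩
  rw [← hqi]
  simp only [Category.assoc]
  rw [reassoc_of% hr]
  simp only [Preadditive.nsmul_comp, Category.id_comp, Preadditive.comp_nsmul]
  rw [reassoc_of% hs]
  simp only [Preadditive.nsmul_comp, Category.id_comp, Preadditive.comp_nsmul, smul_smul]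

/-- A homomorphism killing the `N`-torsion is divisible by `N`. -/
theorem exists_div (N : ℕ) (hN : N ≠ 0) (f : EndAV.Hom X Y)
    (h : ∀ (T : Over (Spec (CommRingCat.of k))) (x : T ⟶ X), x ^ N = 1 → x ≫ f.toHom = 1) :
    ∃ g : EndAV.Hom X Y, N • g = f := by
  haveI : IsIntegral X.left := GeometricallyIntegral.isIntegral_of_subsingleton X.hom
  haveI : IsFinite ((𝟙 X : X ⟶ X) ^ N).left := Cube.isFinite_pow X hN
  haveI : IsMonHom ((𝟙 X : X ⟶ X) ^ N) := GrpDeligne.isMonHom_pow _ N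
  haveI : Flat ((𝟙 X : X ⟶ X) ^ N).left := by
    obtain ⟨g, hg⟩ := AbTors.exists_dim X
    haveI := Bidual.surjective_of_finite_of_dim_eq ((𝟙 X : X ⟶ X) ^ N) hg hg
    exact Rigidity.flat_of_isFinite X X _
  haveI : Surjective ((𝟙 X : X ⟶ X) ^ N).left := by
    obtain ⟨g, hg⟩ := AbTors.exists_dim X
    exact Bidual.surjective_of_finite_of_dim_eq ((𝟙 X : X ⟶ X) ^ N) hg hg
  have hK : AlgGrp.IsKernel (pullback.fst ((𝟙 X : X ⟶ X) ^ N) η[X]) ((𝟙 X : X ⟶ X) ^ N) := by
    have := IsPullback.of_hasPullback ((𝟙 X : X ⟶ X) ^ N) η[X]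
    rwa [toUnit_unique (pullback.snd _ _) (toUnit _)] at this
  obtain ⟨g, hg, hfac⟩ := GrpDeligne.exists_factor _ _ hK f.toHom (h _ _ (by
    have := GrpDeligne.ker_comp_eq_one hK
    rwa [MonObj.comp_pow, Category.comp_id] at this))
  haveI := hg
  refine ⟨EndAV.Hom.of g, EndAV.Hom.ext ?_⟩
  rw [EndAV.Hom.toHom_nsmul, EndAV.Hom.toHom_of, ← hfac, MonObj.pow_comp, Category.id_comp]

/-- A homomorphism killing the kernel of a surjection factors through it. -/
theorem exists_factor (q : EndAV.Hom X Y) [Surjective q.toHom.left] (f : EndAV.Hom X Z)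
    (h : ∀ (T : Over (Spec (CommRingCat.of k))) (x : T ⟶ X), x ≫ q.toHom = 1 → x ≫ f.toHom = 1) :
    ∃ g : EndAV.Hom Y Z, q ≫ g = f := by
  obtain ⟨n, s, hn, hs⟩ := exists_section q
  have e2 : q ≫ s ≫ f = n • f := by
    set w : EndAV.Hom X X := q ≫ s - n • 𝟙 _ with hw
    have h0 : w ≫ q = 0 := by
      rw [hw, Preadditive.sub_comp, Category.assoc, hs, Preadditive.comp_nsmul, Category.comp_id,
        Preadditive.nsmul_comp, Category.id_comp, sub_self]
    have h1 : w ≫ f = 0 := EndAV.Hom.ext (h X w.toHom (congrArg EndAV.Hom.toHom h0))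
    rw [hw, Preadditive.sub_comp, sub_eq_zero, Preadditive.nsmul_comp, Category.id_comp, Category.assoc] at h1
    exact h1
  obtain ⟨g, hg⟩ := exists_div n hn.ne' (s ≫ f) fun T y hy => by
    rw [EndAV.Hom.toHom_comp, ← Category.assoc]
    refine h T _ ?_
    rw [Category.assoc, ← EndAV.Hom.toHom_comp, hs, EndAV.Hom.toHom_nsmul, EndAV.Hom.toHom_id, MonObj.comp_pow,
      Category.comp_id, hy]
  refine ⟨g, sub_eq_zero.1 (eq_zero_of_nsmul hn.ne' ?_)⟩
  rw [smul_sub, ← Preadditive.comp_nsmul, hg, e2, sub_self]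

/-- If only zero endomorphisms of the target kill `h`, then `h` is surjective. -/
theorem surjective_of_comp_eq_zero (h : EndAV.Hom X Y) (hh : ∀ u : EndAV.Hom Y Y, h ≫ u = 0 → u = 0) :
    Surjective h.toHom.left := by
  obtain ⟨M, _, _, _, _, q, i, hq, hi, rfl⟩ := exists_fac h
  obtain ⟨b, r, hb, hr⟩ := exists_retraction i
  have hu : (b • 𝟙 (CommGrp.mk Y) - r ≫ i : EndAV.Hom Y Y) = 0 := hh _ (by
    rw [Preadditive.comp_sub, Preadditive.comp_nsmul, Category.comp_id, Category.assoc, reassoc_of% hr,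
      Preadditive.nsmul_comp, Category.id_comp, Preadditive.comp_nsmul, sub_self])
  have e : r.toHom ≫ i.toHom = 𝟙 Y ^ b := by
    rw [← EndAV.Hom.toHom_comp, ← sub_eq_zero.1 hu, EndAV.Hom.toHom_nsmul, EndAV.Hom.toHom_id]
  haveI : IsIntegral Y.left := GeometricallyIntegral.isIntegral_of_subsingleton Y.hom
  haveI : IsFinite ((𝟙 Y : Y ⟶ Y) ^ b).left := Cube.isFinite_pow Y hb.ne'
  haveI : IsMonHom ((𝟙 Y : Y ⟶ Y) ^ b) := GrpDeligne.isMonHom_pow _ b
  obtain ⟨g, hg⟩ := AbTors.exists_dim Y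
  haveI := Bidual.surjective_of_finite_of_dim_eq ((𝟙 Y : Y ⟶ Y) ^ b) hg hg
  haveI : Surjective i.toHom.left := by
    have : Surjective (r.toHom ≫ i.toHom).left := by rw [e]; infer_instance
    rw [Over.comp_left] at this
    exact Surjective.of_comp r.toHom.left _
  haveI := hq
  show Surjective (q.toHom.left ≫ i.toHom.left)
  infer_instance

/-! ### Powers -/

omit [IsCommMonObj X] in
/-- Powers of an abelian variety. -/
theorem exists_power (A : Over (Spec (CommRingCat.of k))) [GrpObj A] [IsCommMonObj A] [IsProper A.hom]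
    [GeometricallyIntegral A.hom] (m : ℕ) :
    ∃ (P : Over (Spec (CommRingCat.of k))) (_ : GrpObj P) (_ : IsCommMonObj P) (_ : IsProper P.hom)
      (_ : GeometricallyIntegral P.hom) (pr : Fin m → EndAV.Hom P A) (inc : Fin m → EndAV.Hom A P),
      (∀ t, inc t ≫ pr t = 𝟙 _) ∧ (∀ t t', t ≠ t' → inc t ≫ pr t' = 0) ∧ (∑ t, pr t ≫ inc t = 𝟙 _) ∧
      ∀ (T : Over (Spec (CommRingCat.of k))) (x y : T ⟶ P),
        (∀ t, x ≫ (pr t).toHom = y ≫ (pr t).toHom) → x = y := by
  classical
  obtain ⟨d, hd⟩ := AbTors.exists_dim A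
  obtain ⟨P, _, pr, _, _, hpr, -, hex, huniq⟩ := Poincare.exists_prod_fin (fun _ : Fin m => A) (fun _ => d) fun _ => hd
  haveI : IsCommMonObj P := Cube.isCommMonObj_abVar
  haveI : ∀ t, IsMonHom (pr t) := hpr
  choose inc hinc using fun t => hex A fun t' => if t = t' then 𝟙 A else 1
  haveI : ∀ t, IsMonHom (inc t) := fun t => DiagGrp.isMonHom_of_points _ fun W a b => huniq W _ _ fun t' => by
    by_cases h : t = t'
    · have e := (hinc t t').trans (if_pos h)
      simp only [Category.assoc, MonObj.mul_comp, e, Category.comp_id]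
    · have e := (hinc t t').trans (if_neg h)
      simp only [Category.assoc, MonObj.mul_comp, e, MonObj.comp_one, _root_.one_mul]
  let p : Fin m → EndAV.Hom P A := fun t => EndAV.Hom.of (pr t)
  let c : Fin m → EndAV.Hom A P := fun t => EndAV.Hom.of (inc t)
  have h1 : ∀ t, c t ≫ p t = 𝟙 _ := fun t => EndAV.Hom.ext ((hinc t t).trans (if_pos rfl))
  have h2 : ∀ t t', t ≠ t' → c t ≫ p t' = 0 := fun t t' h => EndAV.Hom.ext ((hinc t t').trans (if_neg h))
  refine ⟨P, inferInstance, inferInstance, inferInstance, inferInstance, p, c, h1, h2, ?_, huniq⟩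
  refine EndAV.Hom.ext (huniq P _ _ fun t' => ?_)
  have e : (∑ t, p t ≫ c t) ≫ p t' = p t' := by
    rw [Preadditive.sum_comp, Finset.sum_eq_single t' (fun t _ ht => by rw [Category.assoc, h2 t t' ht, Limits.comp_zero])
      (fun h => absurd (Finset.mem_univ t') h), Category.assoc, h1, Category.comp_id]
  exact (congrArg EndAV.Hom.toHom e).trans (Category.id_comp _).symm

/-- The common kernel of finitely many homomorphisms with no common abelian subvariety is finite. -/
theorem isFinite_of_faithful (F : EndAV.Hom X Y)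
    (h : ∀ (C : Over (Spec (CommRingCat.of k))) [GrpObj C] [IsCommMonObj C] [IsProper C.hom]
      [GeometricallyIntegral C.hom] (c : EndAV.Hom C X), Mono c.toHom → c ≫ F = 0 → c = 0) :
    IsFinite F.toHom.left := by
  by_contra hfin
  obtain ⟨C, _, c, _, _, _, _, hC, hc⟩ := Poincare.exists_subvariety_ker F.toHom hfin
  refine hC ?_
  haveI : IsCommMonObj C := Cube.isCommMonObj_abVar
  haveI : Mono c := mono_of_closedImmersion c
  have h1 : c = 1 := congrArg EndAV.Hom.toHom (h C (EndAV.Hom.of c) ‹_› (EndAV.Hom.ext hc))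
  have e : 𝟙 C = (1 : C ⟶ C) := (cancel_mono c).1 (by rw [Category.id_comp, MonObj.one_comp, h1])
  have e' : 𝟙 C.left = C.hom ≫ η[C].left := by
    have := congrArg Over.Hom.left e
    rw [Hom.one_def, Over.comp_left] at this
    exact this
  refine ⟨fun a b => ?_⟩
  have key : ∀ z : C.left, z = η[C].left (C.hom z) := fun z => by
    conv_lhs => rw [show z = (𝟙 C.left : C.left ⟶ C.left) z from rfl, e']
    rfl
  rw [key a, key b]
  exact congrArg _ (Subsingleton.elim (α := ↥(Spec (CommRingCat.of k))) _ _)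

end GrothLib.AVCat
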